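import Groth.Agent.Lib.TorAR27.Annihilate
import Groth.Agent.Lib.TorBal27.Filtered
import Groth.Agent.Lib.BlowAlg3.Basic
import Mathlib.CategoryTheory.Functor.OfSequence
import Mathlib.Algebra.Category.ModuleCat.FilteredColimits

/-!
# Tor against affine blow-up algebras
-/

set_option autoImplicit false
universe u

open CategoryTheory CategoryTheory.Limits MonoidalCategory TensorProduct

noncomputable section

namespace Groth.Agent.TorAR27

open Groth.Agent.TorBal27 Groth.Agent.TorMap27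

variable {R : Type u} [CommRing R]

/-- Dimension shifting along presentations with projective middle terms, converse direction. -/
theorem torZero_syzygy {K₁ E₁ C₁ K₂ E₂ C₂ : ModuleCat.{u} R} [Projective E₁] [Projective E₂]
    (i₁ : K₁ →ₗ[R] E₁) (p₁ : E₁ →ₗ[R] C₁) (h₁ : p₁ ∘ₗ i₁ = 0)
    (i₂ : K₂ →ₗ[R] E₂) (p₂ : E₂ →ₗ[R] C₂) (h₂ : Function.Exact i₂ p₂) (hi₂ : Function.Injective i₂)
    (hp₂ : Function.Surjective p₂)
    (a : K₁ →ₗ[R] K₂) (b : E₁ →ₗ[R] E₂) (c : C₁ →ₗ[R] C₂) (hab : i₂ ∘ₗ a = b ∘ₗ i₁) (hbc : p₂ ∘ₗ b = c ∘ₗ p₁)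
    (n : ℕ) (h : TorZero (n + 2) (ModuleCat.ofHom c : C₁ ⟶ C₂)) :
    TorZero (n + 1) (ModuleCat.ofHom a : K₁ ⟶ K₂) := by
  rw [torZero_succ_iff] at h
  haveI : Module.Projective R E₁ := (IsProjective.iff_projective (R := R) E₁).2 inferInstance
  obtain ⟨β, hβ⟩ := Module.projective_lifting_property (ev C₁) p₁ (ev_surjective C₁)
  obtain ⟨α, hα⟩ := Module.projective_lifting_property p₂ (ev C₂) hp₂
  let β' : K₁ →ₗ[R] (K R).obj C₁ := LinearMap.codRestrict (LinearMap.ker (ev C₁)) (β ∘ₗ i₁) fun x =>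
    (LinearMap.congr_fun hβ (i₁ x)).trans (LinearMap.congr_fun h₁ x)
  have hr : ∀ x : (K R).obj C₂, α (inc C₂ x) ∈ LinearMap.range i₂ := fun x =>
    (h₂ _).1 ((LinearMap.congr_fun hα _).trans (LinearMap.congr_fun (ev_comp_inc C₂) x))
  let α' : (K R).obj C₂ →ₗ[R] K₂ :=
    (LinearEquiv.ofInjective i₂ hi₂).symm.toLinearMap ∘ₗ LinearMap.codRestrict _ (α ∘ₗ inc C₂) hr
  let D₀ : E₁ →ₗ[R] E₂ := b - α ∘ₗ ((F R).map (ModuleCat.ofHom c)).hom ∘ₗ β
  have hD : ∀ x, D₀ x ∈ LinearMap.range i₂ := fun x => (h₂ _).1 (by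
    show p₂ (b x - α (((F R).map (ModuleCat.ofHom c)).hom (β x))) = 0
    rw [map_sub, sub_eq_zero]
    exact (LinearMap.congr_fun hbc x).trans (((LinearMap.congr_fun hα _).trans
      ((LinearMap.congr_fun (ev_comp_map (ModuleCat.ofHom c)) (β x)).trans (congrArg c (LinearMap.congr_fun hβ x)))).symm))
  let D : E₁ →ₗ[R] K₂ := (LinearEquiv.ofInjective i₂ hi₂).symm.toLinearMap ∘ₗ LinearMap.codRestrict _ D₀ hD
  have hinv : ∀ y, i₂ ((LinearEquiv.ofInjective i₂ hi₂).symm y) = y.1 := fun y =>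
    congrArg Subtype.val ((LinearEquiv.ofInjective i₂ hi₂).apply_symm_apply y)
  have heq : (ModuleCat.ofHom a : K₁ ⟶ K₂) =
      (ModuleCat.ofHom β' : K₁ ⟶ _) ≫ (K R).map (ModuleCat.ofHom c : C₁ ⟶ C₂) ≫ (ModuleCat.ofHom α' : _ ⟶ K₂) +
        (ModuleCat.ofHom i₁ : K₁ ⟶ E₁) ≫ (ModuleCat.ofHom D : E₁ ⟶ K₂) := by
    refine ModuleCat.hom_ext (LinearMap.ext fun x => hi₂ ?_)
    show i₂ (a x) = i₂ ((LinearEquiv.ofInjective i₂ hi₂).symm ⟨α (((F R).map (ModuleCat.ofHom c)).hom (β (i₁ x))), _⟩ +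
      (LinearEquiv.ofInjective i₂ hi₂).symm ⟨D₀ (i₁ x), _⟩)
    rw [map_add i₂, hinv, hinv]
    show i₂ (a x) = α _ + (b (i₁ x) - α _)
    exact (LinearMap.congr_fun hab x).trans (add_sub_cancel _ _).symm
  rw [heq]
  exact torZero_add (torZero_comp_left _ _ (torZero_comp_right _ _ h)) (torZero_comp_projective _ _ n)

variable [IsNoetherianRing R]

theorem tor_smul_pow_eq_zero (I : Ideal R) (n i : ℕ) (r : R)
    (h : ∀ (M : ModuleCat.{u} R) (x : ((Tor (ModuleCat.{u} R) (i + 2)).obj M).obj (ModuleCat.of R (R ⧸ I ^ n))),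
      r • x = 0) : TorZero (i + 1) (r • 𝟙 (ModuleCat.of R (I ^ n : Ideal R))) := by
  haveI : Projective (ModuleCat.of R R) := (IsProjective.iff_projective (R := R) R).1 inferInstance
  have hc : TorZero (i + 2) (r • 𝟙 (ModuleCat.of R (R ⧸ I ^ n))) := fun M => by
    rw [tor_map_smul]
    exact ModuleCat.hom_ext (LinearMap.ext fun x => h M x)
  exact torZero_syzygy (E₁ := ModuleCat.of R R) (E₂ := ModuleCat.of R R) (I ^ n : Ideal R).subtype (I ^ n).mkQ
    (LinearMap.ext fun x : (I ^ n : Ideal R) => (Submodule.Quotient.mk_eq_zero _).2 x.2) (I ^ n : Ideal R).subtype (I ^ n).mkQ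
    (fun y => (Submodule.Quotient.mk_eq_zero _).trans ⟨fun hy => ⟨⟨y, hy⟩, rfl⟩, fun ⟨x, hx⟩ => hx ▸ x.2⟩)
    Subtype.val_injective (Submodule.mkQ_surjective _)
    (r • LinearMap.id) (r • LinearMap.id) (r • LinearMap.id) (LinearMap.ext fun x => rfl)
    (LinearMap.ext fun x => map_smul (I ^ n).mkQ r x) i hc

theorem exists_kill_tor_affineAlgebra (t : ℕ) (a : Fin (t + 1) → R) :
    ∃ c : ℕ, ∀ (M : Type u) [AddCommGroup M] [Module R M] (i : ℕ), t + 1 ≤ i →
      ∀ x ∈ Ideal.span (Set.range a) ^ c,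
      ∀ y : ((Tor (ModuleCat.{u} R) i).obj
        (ModuleCat.of R (BlowUp.affineAlgebra R (Ideal.span (Set.range a)) (a 0)))).obj (ModuleCat.of R M),
        x • y = 0 := by
  classical
  obtain ⟨c, hc⟩ := tor_annihilated_uniformly_above_generators (Ideal.span (Set.range a)) (t + 1)
    (Finset.univ.image a) (by simp) (Finset.card_image_le.trans_eq (Finset.card_fin _))
  set I := Ideal.span (Set.range a) with hI
  have hπ : a 0 ∈ I := Ideal.subset_span ⟨0, rfl⟩
  refine ⟨c, fun M _ _ i hi r hr y => ?_⟩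
  obtain ⟨j, rfl⟩ : ∃ j, i = j + 1 := ⟨i - 1, by omega⟩
  let B := ModuleCat.of R (BlowUp.affineAlgebra R I (a 0))
  let stepMap : ∀ n, (I ^ n : Ideal R) →ₗ[R] (I ^ (n + 1) : Ideal R) := fun n =>
    LinearMap.codRestrict _ ((LinearMap.mulRight R (a 0)) ∘ₗ (I ^ n : Ideal R).subtype) fun x => by
      show x.1 * a 0 ∈ I ^ (n + 1)
      rw [pow_succ]
      exact Ideal.mul_mem_mul x.2 hπ
  let G : ℕ ⥤ ModuleCat.{u} R := Functor.ofSequence (X := fun n => ModuleCat.of R (I ^ n : Ideal R))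
    fun n => ModuleCat.ofHom (stepMap n)
  have hfrac : ∀ (n : ℕ) (x y : R),
      BlowAlg3.frac (a 0) n (x + y) = BlowAlg3.frac (a 0) n x + BlowAlg3.frac (a 0) n y := fun n x y => by
    rw [BlowAlg3.frac, BlowAlg3.frac, BlowAlg3.frac, IsLocalization.mk'_eq_iff_eq_mul, add_mul,
      IsLocalization.mk'_spec, IsLocalization.mk'_spec, map_add]
  let incl : ∀ n, (I ^ n : Ideal R) →ₗ[R] (BlowUp.affineAlgebra R I (a 0)) := fun n =>
    { toFun := fun x => ⟨BlowAlg3.frac (a 0) n x.1, (BlowAlg3.mem_iff hπ _).2 ⟨n, x.1, x.2, rfl⟩⟩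
      map_add' := fun x y => Subtype.ext (hfrac n x.1 y.1)
      map_smul' := fun s x => Subtype.ext (by
        show BlowAlg3.frac (a 0) n (s * x.1) = s • BlowAlg3.frac (a 0) n x.1
        rw [BlowAlg3.frac, BlowAlg3.frac, Algebra.smul_def, IsLocalization.mk'_eq_iff_eq_mul, mul_assoc,
          IsLocalization.mk'_spec, map_mul]) }
  have hstep : ∀ n, incl (n + 1) ∘ₗ stepMap n = incl n := fun n => LinearMap.ext fun x => Subtype.ext (by
    show BlowAlg3.frac (a 0) (n + 1) (x.1 * a 0) = BlowAlg3.frac (a 0) n x.1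
    rw [BlowAlg3.frac, BlowAlg3.frac, IsLocalization.mk'_eq_iff_eq]
    show algebraMap R _ (a 0 ^ n * (x.1 * a 0)) = algebraMap R _ (a 0 ^ (n + 1) * x.1)
    congr 1
    ring)
  let ι : G ⟶ (Functor.const ℕ).obj B := NatTrans.ofSequence (fun n => ModuleCat.ofHom (incl n)) fun n => by
    rw [Functor.ofSequence_map_homOfLE_succ]
    exact (ModuleCat.hom_ext (hstep n)).trans (Category.comp_id _).symm
  let C : Cocone G := ⟨B, ι⟩
  have hmap : ∀ (n m : ℕ) (x : (I ^ n : Ideal R)),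
      ((G.map (homOfLE (Nat.le_add_right n m))).hom x : (I ^ (n + m) : Ideal R)).1 = x.1 * a 0 ^ m := by
    intro n m
    induction m with
    | zero =>
      intro x
      rw [show homOfLE (Nat.le_add_right n 0) = 𝟙 n from Subsingleton.elim _ _, CategoryTheory.Functor.map_id, pow_zero,
        mul_one]
      rfl
    | succ m ih =>
      intro x
      rw [show homOfLE (Nat.le_add_right n (m + 1)) =
        homOfLE (Nat.le_add_right n m) ≫ homOfLE (Nat.le_succ (n + m)) from Subsingleton.elim _ _, Functor.map_comp,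
        Functor.ofSequence_map_homOfLE_succ]
      show ((G.map (homOfLE (Nat.le_add_right n m))).hom x : (I ^ (n + m) : Ideal R)).1 * a 0 = _
      rw [ih, pow_succ, mul_assoc]
  haveI := preservesFilteredColimitsOfSize_shrink.{0, u, 0, u} (forget (ModuleCat.{u} R))
  haveI : PreservesColimitsOfShape ℕ (forget (ModuleCat.{u} R)) :=
    PreservesFilteredColimitsOfSize.preserves_filtered_colimits ℕ
  have hdesc : IsIso ((colimit.isColimit G).desc C) := by
    rw [ConcreteCategory.isIso_iff_bijective]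
    refine ⟨(injective_iff_map_eq_zero _).2 fun z hz => ?_, fun q => ?_⟩
    · obtain ⟨n, x, rfl⟩ := Concrete.colimit_exists_rep G z
      rw [← ModuleCat.comp_apply] at hz
      erw [(colimit.isColimit G).fac C n] at hz
      have hz' : BlowAlg3.frac (a 0) n (x : (I ^ n : Ideal R)).1 = 0 := congrArg Subtype.val hz
      obtain ⟨m, hm⟩ := (BlowAlg3.frac_eq_zero_iff n _).1 hz'
      have hx : (G.map (homOfLE (Nat.le_add_right n m))).hom x = 0 :=
        Subtype.ext ((hmap n m x).trans ((mul_comm _ _).trans hm))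
      rw [← colimit.w G (homOfLE (Nat.le_add_right n m)), ModuleCat.comp_apply]
      exact (congrArg (colimit.ι G (n + m)).hom hx).trans (map_zero _)
    · obtain ⟨q, hq⟩ := q
      obtain ⟨n, x, hx, rfl⟩ := (BlowAlg3.mem_iff hπ q).1 hq
      refine ⟨colimit.ι G n ⟨x, hx⟩, ?_⟩
      rw [← ModuleCat.comp_apply]
      erw [(colimit.isColimit G).fac C n]
      rfl
  haveI := hdesc
  let hC : IsColimit C := IsColimit.ofPointIso (colimit.isColimit G)
  haveI : PreservesFilteredColimitsOfSize.{u, u} ((Tor (ModuleCat.{u} R) (j + 1)).flip.obj (ModuleCat.of R M)) :=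
    ⟨fun J _ _ => preservesColimitsOfShape_flip (ModuleCat.of R M) (j + 1) J⟩
  haveI := preservesFilteredColimitsOfSize_shrink.{0, u, 0, u}
    ((Tor (ModuleCat.{u} R) (j + 1)).flip.obj (ModuleCat.of R M))
  haveI : PreservesColimitsOfShape ℕ ((Tor (ModuleCat.{u} R) (j + 1)).flip.obj (ModuleCat.of R M)) :=
    PreservesFilteredColimitsOfSize.preserves_filtered_colimits ℕ
  have hC' := isColimitOfPreserves ((Tor (ModuleCat.{u} R) (j + 1)).flip.obj (ModuleCat.of R M)) hC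
  obtain ⟨n, w, hw⟩ := Concrete.isColimit_exists_rep _ hC' y
  subst hw
  have h0 : TorZero (j + 1) (r • 𝟙 (ModuleCat.of R (I ^ n : Ideal R))) :=
    tor_smul_pow_eq_zero I n j r fun M' x => hc M' (j + 2) n (by omega) r hr x
  have h1 := ((torZero_iff_map (j + 1) _).1 h0) (ModuleCat.of R M)
  obtain ⟨e⟩ := nonempty_tor_iso_flip (R := R) (j + 1)
  have h2 : r • w = 0 := by
    let f := ((e.app (ModuleCat.of R (I ^ n : Ideal R))).app (ModuleCat.of R M)).toLinearEquiv
    obtain ⟨w', rfl⟩ : ∃ w' : ((Tor (ModuleCat.{u} R) (j + 1)).obj (ModuleCat.of R (I ^ n : Ideal R))).obj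
        (ModuleCat.of R M), w' = w := ⟨w, rfl⟩
    refine f.injective ?_
    show f (r • w') = f 0
    refine (map_smul f r w').trans (Eq.trans ?_ (map_zero f).symm)
    have h3 := h0 (ModuleCat.of R M)
    rw [tor_map_smul] at h3
    exact ConcreteCategory.congr_hom h3 (f w')
  exact ((map_smul _ r w).symm.trans (congrArg _ h2)).trans (map_zero _)

end Groth.Agent.TorAR27
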